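import Cfsg.Agent.Lib.FrobeniusFree.Galois

/-!
An irreducible module of a Frobenius group `FH` in which `F` acts nontrivially through a central
abelian normal subgroup of fixed-point-free type is free over `H`.
-/

set_option autoImplicit false

namespace Cfsg.Agent.Lib.FrobeniusFree

variable {k V A : Type*} [Field k] [AddCommGroup V] [Module k V] [Group A]

/-- `V` is free over `H`. -/
def IsFree (Hc : Subgroup A) [Fintype Hc] (ρ : A →* Module.End k V) : Prop :=
  ∃ W : Submodule k V, Function.Bijective fun w : Hc → W => ∑ h : Hc, ρ (h : A) (w h : V)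

omit [Module k V] in
theorem rho_inv_apply [Module k V] (ρ : A →* Module.End k V) (a : A) (v : V) :
    ρ a⁻¹ (ρ a v) = v := by
  rw [← Module.End.mul_apply, ← map_mul, inv_mul_cancel, map_one]; rfl

set_option maxHeartbeats 1000000 in
theorem isFree_irreducible [FiniteDimensional k V] [Nontrivial V] [Finite A]
    (Hc : Subgroup A) [Fintype Hc] (ρ : A →* Module.End k V)
    (hirr : ∀ U : Submodule k V, (∀ a : A, ∀ u ∈ U, ρ a u ∈ U) → U = ⊥ ∨ U = ⊤)
    (Fk N : Subgroup A) [N.Normal] (hgen : Fk ⊔ Hc = ⊤) [Fk.Normal]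
    (hcent : ∀ n ∈ N, ∀ f ∈ Fk, Commute (ρ n) (ρ f)) (hNF : N ≤ Fk)
    (hne : ∃ n ∈ N, ρ n ≠ 1)
    (hfpf : ∀ h ∈ Hc, h ≠ 1 → ∀ n ∈ N, Commute h n → n = 1) :
    IsFree Hc ρ := by
  classical
  -- no fixed points of `N`
  have hfix : ∀ v : V, (∀ n ∈ N, ρ n v = v) → v = 0 := by
    let U₀ : Submodule k V :=
      { carrier := {v | ∀ n ∈ N, ρ n v = v}
        zero_mem' := fun n _ => map_zero _
        add_mem' := fun {a b} ha hb n hn => by rw [map_add, ha n hn, hb n hn]
        smul_mem' := fun c a ha n hn => by rw [map_smul, ha n hn] }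
    have hinv : ∀ a : A, ∀ u ∈ U₀, ρ a u ∈ U₀ := by
      intro a u hu n hn
      have h' : a⁻¹ * n * a ∈ N := by simpa using Subgroup.Normal.conj_mem ‹_› n hn a⁻¹
      rw [← Module.End.mul_apply, ← map_mul, show n * a = a * (a⁻¹ * n * a) by group, map_mul,
        Module.End.mul_apply, hu _ h']
    rcases hirr U₀ hinv with h | h
    · intro v hv
      exact (Submodule.mem_bot k).mp (h ▸ (hv : v ∈ U₀))
    · obtain ⟨n, hn, hn1⟩ := hne
      exact absurd (LinearMap.ext fun v => (h ▸ Submodule.mem_top : v ∈ U₀) n hn) hn1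
  -- the commutative algebra
  let R : Subalgebra k (Module.End k V) := Algebra.adjoin k (ρ '' (N : Set A))
  have hRcomm : ∀ a b : R, a * b = b * a := by
    have := Algebra.isMulCommutative_adjoin k (s := ρ '' (N : Set A)) (by
      rintro _ ⟨m, hm, rfl⟩ _ ⟨n, hn, rfl⟩
      exact (hcent m hm n (hNF hn)).eq)
    exact fun a b => mul_comm' a b
  letI : CommRing R := { (inferInstance : Ring R) with mul_comm := hRcomm }
  have hsmul : ∀ (r : R) (v : V), r • v = (r : Module.End k V) v := fun r v => rfl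
  have hRF : ∀ r : R, ∀ f ∈ Fk, Commute (r : Module.End k V) (ρ f) := by
    rintro ⟨r, hr⟩ f hf
    induction hr using Algebra.adjoin_induction with
    | mem x hx =>
      obtain ⟨n, hn, rfl⟩ := hx
      exact hcent n hn f hf
    | algebraMap c => exact Algebra.commutes c _
    | add x y _ _ h1 h2 => exact h1.add_left h2
    | mul x y _ _ h1 h2 => exact h1.mul_left h2
  -- conjugation
  have hconj : ∀ (a : A) (r : R), ρ a * (r : Module.End k V) * ρ a⁻¹ ∈ R := by
    rintro a ⟨r, hr⟩
    have h1 : ρ a * ρ a⁻¹ = 1 := by rw [← map_mul, mul_inv_cancel, map_one]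
    have h2 : ρ a⁻¹ * ρ a = 1 := by rw [← map_mul, inv_mul_cancel, map_one]
    induction hr using Algebra.adjoin_induction with
    | mem x hx =>
      obtain ⟨n, hn, rfl⟩ := hx
      refine Algebra.subset_adjoin ⟨a * n * a⁻¹, Subgroup.Normal.conj_mem ‹_› n hn a, ?_⟩
      rw [map_mul, map_mul]
    | algebraMap c =>
      rw [← Algebra.commutes c (ρ a), mul_assoc, h1, mul_one]
      exact R.algebraMap_mem c
    | add x y _ _ hx hy => rw [mul_add, add_mul]; exact add_mem hx hy
    | mul x y _ _ hx hy =>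
      have : ρ a * (x * y) * ρ a⁻¹ = (ρ a * x * ρ a⁻¹) * (ρ a * y * ρ a⁻¹) := by
        simp only [mul_assoc]
        rw [← mul_assoc (ρ a⁻¹) (ρ a), h2, one_mul]
      rw [this]; exact mul_mem hx hy
  letI : MulSemiringAction Hc R :=
    { smul := fun h r => ⟨ρ (h : A) * r * ρ (h : A)⁻¹, hconj h r⟩
      one_smul := fun r => Subtype.ext (by
        show ρ ((1 : Hc) : A) * r * ρ ((1 : Hc) : A)⁻¹ = _
        simp)
      mul_smul := fun a b r => Subtype.ext (by
        show ρ ((a * b : Hc) : A) * r * ρ ((a * b : Hc) : A)⁻¹ =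
          ρ (a : A) * (ρ (b : A) * r * ρ (b : A)⁻¹) * ρ (a : A)⁻¹
        simp [mul_inv_rev, map_mul, mul_assoc])
      smul_zero := fun a => Subtype.ext (by
        show ρ (a : A) * (0 : R) * ρ (a : A)⁻¹ = _
        simp)
      smul_add := fun a r s => Subtype.ext (by
        show ρ (a : A) * (r + s : R) * ρ (a : A)⁻¹ =
          ρ (a : A) * r * ρ (a : A)⁻¹ + ρ (a : A) * s * ρ (a : A)⁻¹
        simp [mul_add, add_mul])
      smul_one := fun a => Subtype.ext (by
        show ρ (a : A) * (1 : R) * ρ (a : A)⁻¹ = _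
        simp [← map_mul])
      smul_mul := fun a r s => Subtype.ext (by
        show ρ (a : A) * (r * s : R) * ρ (a : A)⁻¹ =
          (ρ (a : A) * r * ρ (a : A)⁻¹) * (ρ (a : A) * s * ρ (a : A)⁻¹)
        simp only [Subalgebra.coe_mul, mul_assoc]
        rw [← mul_assoc (ρ (a : A)⁻¹) (ρ (a : A)), ← map_mul ρ (a : A)⁻¹, inv_mul_cancel, map_one,
          one_mul]) }
  have hsem : ∀ (h : Hc) (r : R) (v : V), ρ (h : A) (r • v) = (h • r) • ρ (h : A) v := fun h r v => by
    show _ = (ρ (h : A) * r * ρ (h : A)⁻¹) (ρ (h : A) v)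
    rw [Module.End.mul_apply, Module.End.mul_apply, rho_inv_apply]
    rfl
  -- a simple submodule and its annihilator
  have : IsScalarTower k R V := ⟨fun c r v => rfl⟩
  have : IsArtinian R V := isArtinian_of_tower k inferInstance
  have : IsAtomic (Submodule R V) :=
    isAtomic_of_orderBot_wellFounded_lt wellFounded_lt
  obtain h0 | ⟨U, hU, -⟩ := IsAtomic.eq_bot_or_exists_atom_le (⊤ : Submodule R V)
  · exact absurd h0 top_ne_bot
  have : IsSimpleModule R U := isSimpleModule_iff_isAtom.mpr hU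
  let I : Ideal R := Module.annihilator R U
  have hI : I.IsMaximal := IsSimpleModule.annihilator_isMaximal
  let VI : Submodule R V := Submodule.torsionBySet R V I
  have hmemVI : ∀ v, v ∈ VI ↔ ∀ r ∈ I, r • v = 0 := fun v => by
    rw [Submodule.mem_torsionBySet_iff]
    exact ⟨fun h r hr => h ⟨r, hr⟩, fun h r => h r r.2⟩
  have hUVI : U ≤ VI := fun v hv => (hmemVI v).mpr fun r hr =>
    congrArg Subtype.val (Module.mem_annihilator.mp hr ⟨v, hv⟩)
  -- the translates of `I`
  let J : Hc → Ideal R := fun h => I.comap (MulSemiringAction.toRingHom Hc R h⁻¹)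
  have hmemJ : ∀ h r, r ∈ J h ↔ h⁻¹ • r ∈ I := fun h r => Iff.rfl
  have hJmax : ∀ h, (J h).IsMaximal := fun h =>
    Ideal.comap_isMaximal_of_surjective (MulSemiringAction.toRingHom Hc R h⁻¹)
      fun r => ⟨h • r, inv_smul_smul h r⟩
  have hJmul : ∀ a b, J b = I → J (a * b) = J a := by
    intro a b hb
    ext r
    rw [hmemJ, hmemJ, mul_inv_rev, mul_smul, ← hmemJ b, hb]
  have hJ1 : J 1 = I := by ext r; rw [hmemJ, inv_one, one_smul]
  let H₀ : Subgroup Hc :=
    { carrier := {h | J h = I}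
      one_mem' := hJ1
      mul_mem' := fun {a b} ha hb => (hJmul a b hb).trans ha
      inv_mem' := fun {a} ha => by
        have h := hJmul a⁻¹ a ha
        rw [inv_mul_cancel, hJ1] at h
        exact h.symm }
  have hH₀ : ∀ h : H₀, ∀ r : R, (h : Hc) • r ∈ I ↔ r ∈ I := fun h r => by
    conv_lhs => rw [← show J h = I from h.2]
    rw [hmemJ, inv_smul_smul]
  have htrans : ∀ (h : Hc) (v : V), v ∈ VI → ∀ r ∈ J h, r • ρ (h : A) v = 0 := by
    intro h v hv r hr
    rw [← smul_inv_smul h r, ← hsem, (hmemVI v).mp hv _ ((hmemJ h r).mp hr), map_zero]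
  -- the residue field
  letI : Field (R ⧸ I) := Ideal.Quotient.field I
  let q : H₀ → (R ⧸ I) →+* (R ⧸ I) := fun h =>
    Ideal.quotientMap I (MulSemiringAction.toRingHom Hc R (h : Hc)) fun r hr => (hH₀ h r).mpr hr
  have hq : ∀ h r, q h (Ideal.Quotient.mk I r) = Ideal.Quotient.mk I ((h : Hc) • r) :=
    fun h r => rfl
  letI : MulSemiringAction H₀ (R ⧸ I) :=
    { smul := fun h x => q h x
      one_smul := fun x => by
        obtain ⟨r, rfl⟩ := Ideal.Quotient.mk_surjective x
        show q 1 (Ideal.Quotient.mk I r) = _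
        rw [hq, OneMemClass.coe_one, one_smul]
      mul_smul := fun a b x => by
        obtain ⟨r, rfl⟩ := Ideal.Quotient.mk_surjective x
        show q (a * b) (Ideal.Quotient.mk I r) = q a (q b (Ideal.Quotient.mk I r))
        rw [hq, hq, hq, Subgroup.coe_mul, mul_smul]
      smul_zero := fun a => map_zero (q a)
      smul_add := fun a => map_add (q a)
      smul_one := fun a => map_one (q a)
      smul_mul := fun a => map_mul (q a) }
  have : FaithfulSMul H₀ (R ⧸ I) := by
    constructor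
    intro a b hab
    by_contra hne'
    set c : H₀ := a⁻¹ * b with hc
    have hc1 : c ≠ 1 := fun e => hne' (inv_mul_eq_one.mp e)
    have hcfix : ∀ x : R ⧸ I, c • x = x := fun x => by
      rw [hc, mul_smul, ← hab x, inv_smul_smul]
    obtain ⟨u, hu, hu0⟩ := Submodule.exists_mem_ne_zero_of_ne_bot hU.1
    apply hu0
    apply hfix
    set g : A := ((c : Hc) : A) with hg
    have hg1 : g ≠ 1 := fun e => hc1 (Subtype.ext (Subtype.ext e))
    let τ : N → N := fun n => ⟨(n : A)⁻¹ * (g * n * g⁻¹),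
      mul_mem (inv_mem n.2) (Subgroup.Normal.conj_mem ‹_› _ n.2 g)⟩
    have hτ : Function.Injective τ := by
      intro m n h
      have h' : (m : A)⁻¹ * (g * m * g⁻¹) = (n : A)⁻¹ * (g * n * g⁻¹) := congrArg Subtype.val h
      have hcm : Commute g ((n : A) * (m : A)⁻¹) := by
        symm
        show (n : A) * (m : A)⁻¹ * g = g * ((n : A) * (m : A)⁻¹)
        calc (n : A) * (m : A)⁻¹ * g
            = n * ((m : A)⁻¹ * (g * m * g⁻¹)) * g * (m : A)⁻¹ := by group
          _ = g * ((n : A) * (m : A)⁻¹) := by rw [h']; group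
      exact Subtype.ext (mul_inv_eq_one.mp
        (hfpf g (c : Hc).2 hg1 _ (mul_mem n.2 (inv_mem m.2)) hcm)).symm
    intro n' hn'
    obtain ⟨n, hn⟩ := Finite.surjective_of_injective hτ ⟨n', hn'⟩
    have hn_eq : (n : A)⁻¹ * (g * n * g⁻¹) = n' := congrArg Subtype.val hn
    let r : R := ⟨ρ n, Algebra.subset_adjoin ⟨n, n.2, rfl⟩⟩
    let ri : R := ⟨ρ (n : A)⁻¹, Algebra.subset_adjoin ⟨_, inv_mem n.2, rfl⟩⟩
    have hri : ri * r = 1 := Subtype.ext (by
      show ρ (n : A)⁻¹ * ρ n = 1
      rw [← map_mul, inv_mul_cancel, map_one])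
    have hmem : (c : Hc) • r - r ∈ I := Ideal.Quotient.eq.mp (hcfix (Ideal.Quotient.mk I r))
    have hmem' : ri * ((c : Hc) • r) - 1 ∈ I := by
      rw [← hri, ← mul_sub]
      exact I.mul_mem_left _ hmem
    have h0 := (hmemVI u).mp (hUVI hu) _ hmem'
    rw [sub_smul, one_smul, sub_eq_zero] at h0
    rw [← hn_eq, map_mul, map_mul, map_mul]
    exact h0
  -- semilinear action on `VI`
  have hVI0 : ∀ h : H₀, ∀ v ∈ VI, ρ ((h : Hc) : A) v ∈ VI := fun h v hv =>
    (hmemVI _).mpr fun r hr => htrans _ v hv r (by rw [show J h = I from h.2]; exact hr)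
  let σ : H₀ →* AddMonoid.End VI :=
    { toFun := fun h =>
        { toFun := fun v => ⟨ρ ((h : Hc) : A) v, hVI0 h v v.2⟩
          map_zero' := Subtype.ext (map_zero _)
          map_add' := fun v w => Subtype.ext (map_add _ _ _) }
      map_one' := by
        ext v
        show ρ (((1 : H₀) : Hc) : A) (v : V) = v
        simp
      map_mul' := fun a b => by
        ext v
        show ρ (((a * b : H₀) : Hc) : A) (v : V) = ρ ((a : Hc) : A) (ρ ((b : Hc) : A) v)
        simp }
  have hσ : ∀ (h : H₀) (a : R ⧸ I) (m : VI), σ h (a • m) = (h • a) • σ h m := by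
    intro h a m
    obtain ⟨r, rfl⟩ := Ideal.Quotient.mk_surjective a
    exact Subtype.ext (hsem (h : Hc) r (m : V))
  obtain ⟨θ, hspan, hindep⟩ := semilinear_free σ hσ
  obtain ⟨t, rfl⟩ := Ideal.Quotient.mk_surjective θ
  -- the basic subspace
  let Fix : Submodule k V :=
    { carrier := {v | v ∈ VI ∧ ∀ h : H₀, ρ ((h : Hc) : A) v = v}
      zero_mem' := ⟨zero_mem _, fun h => map_zero _⟩
      add_mem' := fun {a b} ha hb =>
        ⟨add_mem ha.1 hb.1, fun h => by rw [map_add, ha.2 h, hb.2 h]⟩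
      smul_mem' := fun c a ha =>
        ⟨VI.smul_of_tower_mem c ha.1, fun h => by rw [map_smul, ha.2 h]⟩ }
  let W : Submodule k V := Fix.map (t : Module.End k V)
  have hWVI : ∀ v ∈ W, v ∈ VI := by
    rintro _ ⟨u, hu, rfl⟩
    exact VI.smul_mem t hu.1
  let Φ : (Hc → W) →ₗ[k] V :=
    { toFun := fun w => ∑ h : Hc, ρ (h : A) (w h : V)
      map_add' := fun w w' => by simp [Finset.sum_add_distrib]
      map_smul' := fun c w => by simp [Finset.smul_sum] }
  refine ⟨W, (injective_iff_map_eq_zero Φ).mpr fun w hw => funext fun h₀ => ?_, ?_⟩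
  · -- independence
    have hsel : ∀ h : Hc, J h ≠ J h₀ → ∃ a : R, a ∈ J h ∧ a - 1 ∈ J h₀ := by
      intro h hne'
      obtain ⟨a, ha, b, hb, hab⟩ :=
        Submodule.mem_sup.mp ((hJmax h).coprime_of_ne (hJmax h₀) hne' ▸
          (Submodule.mem_top : (1 : R) ∈ ⊤))
      exact ⟨a, ha, by rw [← hab]; simpa using neg_mem hb⟩
    choose! sel hsel1 hsel2 using hsel
    let a : R := ∏ h ∈ Finset.univ.filter (fun h => J h ≠ J h₀), sel h
    have ha0 : ∀ h, J h ≠ J h₀ → a ∈ J h := fun h hh =>
      Ideal.mem_of_dvd _ (Finset.dvd_prod_of_mem sel (Finset.mem_filter.mpr ⟨Finset.mem_univ h, hh⟩))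
        (hsel1 h hh)
    have ha1 : a - 1 ∈ J h₀ := by
      rw [← Ideal.Quotient.eq, map_prod, map_one]
      exact Finset.prod_eq_one fun h hh =>
        (Ideal.Quotient.eq.mpr (hsel2 h (Finset.mem_filter.mp hh).2)).trans (map_one _)
    have hsum : ∑ h ∈ Finset.univ.filter (fun h => J h = J h₀), ρ (h : A) (w h : V) = 0 := by
      rw [Finset.sum_filter]
      refine Eq.trans ?_ (show a • Φ w = 0 by rw [hw, smul_zero])
      show _ = a • ∑ h : Hc, ρ (h : A) (w h : V)
      rw [Finset.smul_sum]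
      refine Finset.sum_congr rfl fun h _ => ?_
      have hv := hWVI _ (w h).2
      split_ifs with hh
      · have h1 := htrans h _ hv _ (hh ▸ ha1)
        rw [sub_smul, one_smul, sub_eq_zero] at h1
        exact h1.symm
      · exact (htrans h _ hv _ (ha0 h hh)).symm
    have hsum' : ∑ g : H₀, ρ ((g : Hc) : A) (w (h₀ * g) : V) = 0 := by
      have h1 := congrArg (ρ (h₀ : A)⁻¹) hsum
      rw [map_zero, map_sum] at h1
      rw [← h1]
      symm
      have hfilter : ∀ h, J h = J h₀ ↔ h₀⁻¹ * h ∈ H₀ := by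
        intro h
        show _ ↔ J (h₀⁻¹ * h) = I
        constructor
        · intro e
          ext r
          rw [hmemJ, mul_inv_rev, inv_inv, mul_smul, ← hmemJ h, e, hmemJ, inv_smul_smul]
        · intro e
          rw [← hJmul h₀ _ e, mul_inv_cancel_left]
      refine Finset.sum_bij' (fun h hh => ⟨h₀⁻¹ * h, (hfilter h).mp (Finset.mem_filter.mp hh).2⟩)
        (fun g _ => h₀ * g) (fun _ _ => Finset.mem_univ _)
        (fun g _ => Finset.mem_filter.mpr ⟨Finset.mem_univ _, (hfilter _).mpr (by simp)⟩)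
        (fun h _ => by simp) (fun g _ => Subtype.ext (by simp)) (fun h _ => ?_)
      simp only [mul_inv_cancel_left]
      rw [Subgroup.coe_mul, map_mul, Subgroup.coe_inv, Module.End.mul_apply]
    choose u hu hut using fun g : H₀ => Submodule.mem_map.mp (w (h₀ * g)).2
    have hz := hindep (fun g => ⟨u g, (hu g).1⟩) (fun g x => Subtype.ext ((hu g).2 x)) (by
      apply Subtype.ext
      rw [AddSubmonoidClass.coe_finset_sum, ZeroMemClass.coe_zero, ← hsum']
      exact Finset.sum_congr rfl fun g _ => by rw [← hut g]; rfl) 1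
    have hz' : u 1 = 0 := congrArg Subtype.val hz
    have h2 := hut 1
    rw [hz', map_zero, OneMemClass.coe_one, mul_one] at h2
    exact Subtype.ext h2.symm
  · -- spanning
    let S : Submodule k V := LinearMap.range Φ
    have hShc : ∀ (h : Hc) (v : V), v ∈ S → ρ (h : A) v ∈ S := by
      rintro h _ ⟨w, rfl⟩
      refine ⟨fun x => w (h⁻¹ * x), ?_⟩
      show ∑ x : Hc, ρ (x : A) (w (h⁻¹ * x) : V) = ρ (h : A) (∑ x : Hc, ρ (x : A) (w x : V))
      rw [← Equiv.sum_comp (Equiv.mulLeft h), map_sum]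
      simp [map_mul]
    have hVIS : ∀ v ∈ VI, v ∈ S := by
      intro v hv
      obtain ⟨u, hu, hm⟩ := hspan ⟨v, hv⟩
      have hval := congrArg Subtype.val hm
      simp only at hval
      rw [hval, AddSubmonoidClass.coe_finset_sum]
      refine Submodule.sum_mem _ fun g _ => hShc (g : Hc) _ ?_
      have hW : (t : Module.End k V) (u g : V) ∈ W :=
        Submodule.mem_map_of_mem ⟨(u g).2, fun h => congrArg Subtype.val (hu g h)⟩
      refine ⟨Pi.single 1 ⟨_, hW⟩, ?_⟩
      show ∑ x : Hc, ρ (x : A) ((Pi.single 1 ⟨_, hW⟩ : Hc → W) x : V) = _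
      rw [Finset.sum_eq_single 1 (fun x _ hx => by simp [Pi.single_eq_of_ne hx]) (by simp)]
      simp
      rfl
    -- the sum of the translates of `VI` is invariant
    let T : Submodule k V := ⨆ h : Hc, (VI.restrictScalars k).map (ρ (h : A))
    let P : Submonoid A :=
      { carrier := {a | ∀ v ∈ T, ρ a v ∈ T}
        one_mem' := fun v hv => by rw [map_one]; exact hv
        mul_mem' := fun {a b} ha hb v hv => by
          rw [map_mul, Module.End.mul_apply]; exact ha _ (hb v hv) }
    have hTmap : ∀ a : A, (∀ (h : Hc) (v : V), v ∈ VI → ρ a (ρ (h : A) v) ∈ T) → a ∈ P := by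
      intro a ha v hv
      suffices hmap : T ≤ T.comap (ρ a) from hmap hv
      refine iSup_le fun h => ?_
      rintro _ ⟨u, hu, rfl⟩
      exact ha h u hu
    have hTmem : ∀ (h : Hc) (v : V), v ∈ VI → ρ (h : A) v ∈ T := fun h v hv =>
      le_iSup (fun h : Hc => (VI.restrictScalars k).map (ρ (h : A))) h ⟨v, hv, rfl⟩
    have hPF : ∀ f ∈ Fk, f ∈ P := fun f hf => hTmap f fun h v hv => by
      have hf' : (h : A)⁻¹ * f * h ∈ Fk := by
        simpa using Subgroup.Normal.conj_mem ‹Fk.Normal› f hf (h : A)⁻¹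
      rw [← Module.End.mul_apply, ← map_mul, show f * h = (h : A) * ((h : A)⁻¹ * f * h) by group,
        map_mul, Module.End.mul_apply]
      refine hTmem h _ ((hmemVI _).mpr fun x hx => ?_)
      rw [hsmul, ← Module.End.mul_apply, (hRF x _ hf').eq, Module.End.mul_apply, ← hsmul,
        (hmemVI v).mp hv x hx, map_zero]
    have hPH : ∀ g ∈ Hc, g ∈ P := fun g hg => hTmap g fun h v hv => by
      rw [← Module.End.mul_apply, ← map_mul]
      exact hTmem (⟨g, hg⟩ * h) v hv
    let P' : Subgroup A :=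
      { toSubmonoid := P
        inv_mem' := fun {a} (ha : a ∈ P) => by
          show a⁻¹ ∈ P
          have : a⁻¹ = a ^ (orderOf a - 1) := inv_eq_of_mul_eq_one_right (by
            rw [← pow_succ', Nat.sub_add_cancel (orderOf_pos a), pow_orderOf_eq_one])
          rw [this]
          exact pow_mem ha _ }
    have hP' : (⊤ : Subgroup A) ≤ P' := hgen ▸ sup_le hPF hPH
    have hT : T = ⊤ := by
      refine (hirr T fun a v hv => (hP' (Subgroup.mem_top a) : a ∈ P) v hv).resolve_left fun e => ?_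
      obtain ⟨u, hu, hu0⟩ := Submodule.exists_mem_ne_zero_of_ne_bot hU.1
      have h1 := hTmem 1 u (hUVI hu)
      rw [e, Submodule.mem_bot, OneMemClass.coe_one, map_one] at h1
      exact hu0 h1
    intro v
    have hv : v ∈ S := (iSup_le fun h => by
      rintro _ ⟨u, hu, rfl⟩
      exact hShc h u (hVIS u hu) : T ≤ S) (show v ∈ T by rw [hT]; trivial)
    exact hv

end Cfsg.Agent.Lib.FrobeniusFree
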