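import Mathlib

/-!
A finite group acting faithfully on a field and semilinearly on a vector space:
the vector space is free over the group with respect to the fixed field.
-/

set_option autoImplicit false

namespace Cfsg.Agent.Lib.FrobeniusFree

variable {H L : Type*} [Group H] [Fintype H] [DecidableEq H] [Field L] [MulSemiringAction H L]
  [FaithfulSMul H L]

theorem exists_linearIndependent_smul :
    ∃ θ : L, LinearIndependent (FixedPoints.subfield H L) fun g : H => g • θ := by
  obtain ⟨θ, hθ⟩ := exists_linearIndependent_algEquiv_apply (FixedPoints.subfield H L) L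
  exact ⟨θ, hθ.comp (FixedPoints.toAlgAutMulEquiv H L) (MulEquiv.injective _)⟩

/-- A normal element together with its dual. -/
theorem exists_dual_pair :
    ∃ θ θ' : L, (∀ x : H, ∑ g : H, g • θ * (x * g) • θ' = if x = 1 then 1 else 0) ∧
      ∀ g h : H, ∑ x : H, (x * g) • θ * (x * h) • θ' = if g = h then 1 else 0 := by
  classical
  obtain ⟨θ, hθ⟩ := exists_linearIndependent_smul (H := H) (L := L)
  let A : Matrix H H L := Matrix.of fun g x => (x * g) • θ
  have hker : ∀ c : H → L, A.mulVec c = 0 → c = 0 := by
    intro c hc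
    have hspan : Submodule.span (FixedPoints.subfield H L) (Set.range fun g : H => g • θ) = ⊤ :=
      hθ.span_eq_top_of_card_eq_finrank (FixedPoints.finrank_eq_card H L).symm
    have hf : ∀ l : L, ∑ x : H, c x * x • l = 0 := by
      intro l
      induction (hspan ▸ Submodule.mem_top :
          l ∈ Submodule.span (FixedPoints.subfield H L) (Set.range fun g : H => g • θ))
        using Submodule.span_induction with
      | mem a ha =>
        obtain ⟨g, rfl⟩ := ha
        have := congrFun hc g
        simp only [A, Matrix.mulVec, dotProduct, Matrix.of_apply, Pi.zero_apply] at this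
        rw [← this]
        exact Finset.sum_congr rfl fun x _ => by rw [mul_smul, mul_comm]
      | zero => simp
      | add a b _ _ ha hb => simp [smul_add, mul_add, Finset.sum_add_distrib, ha, hb]
      | smul r a _ ha =>
        calc ∑ x : H, c x * x • (r • a) = ∑ x : H, (r : L) * (c x * x • a) := by
              refine Finset.sum_congr rfl fun x _ => ?_
              rw [Subfield.smul_def, smul_eq_mul, smul_mul', show x • (r : L) = r from r.2 x]
              ring
          _ = 0 := by rw [← Finset.mul_sum, ha, mul_zero]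
    let φ : H → L →* L := fun x => (MulSemiringAction.toRingHom H L x).toMonoidHom
    have hinj : Function.Injective φ := fun x y h =>
      eq_of_smul_eq_smul fun a : L => DFunLike.congr_fun h a
    refine funext fun x => Fintype.linearIndependent_iff.mp
      ((linearIndependent_monoidHom L L).comp φ hinj) c (funext fun l => ?_) x
    simpa [φ] using hf l
  have hdet : IsUnit A.det := isUnit_iff_ne_zero.mpr fun e => by
    obtain ⟨v, hv, hv0⟩ := Matrix.exists_mulVec_eq_zero_iff.mpr e
    exact hv (hker v hv0)
  let y : H → L := A⁻¹.mulVec (Pi.single 1 1)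
  have hy : A.mulVec y = Pi.single 1 1 := by
    simp only [y, Matrix.mulVec_mulVec, Matrix.mul_nonsing_inv _ hdet, Matrix.one_mulVec]
  have hyeq : ∀ z x : H, y (z * x) = z • y x := by
    intro z x
    let y' : H → L := fun t => z • y (z⁻¹ * t)
    have h : A.mulVec (y' - y) = 0 := by
      rw [Matrix.mulVec_sub, hy, sub_eq_zero]
      funext g
      have h1 := congrArg (z • ·) (congrFun hy g)
      simp only [A, Matrix.mulVec, dotProduct, Matrix.of_apply, Finset.smul_sum, smul_mul'] at h1 ⊢
      rw [← Equiv.sum_comp (Equiv.mulLeft z)]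
      simp only [y', Equiv.coe_mulLeft, inv_mul_cancel_left, mul_assoc, mul_smul z]
      rw [show z • (Pi.single (M := fun _ : H => L) 1 1 g) = Pi.single (M := fun _ : H => L) 1 1 g by
        rw [Pi.single_apply]; split <;> simp] at h1
      exact h1
    have := congrFun (sub_eq_zero.mp (hker _ h)) (z * x)
    simpa [y'] using this.symm
  have hy1 : ∀ x, y x = x • y 1 := fun x => by rw [← hyeq, mul_one]
  have h3 : ∀ g : H, ∑ x : H, (x * g) • θ * x • y 1 = if g = 1 then 1 else 0 := by
    intro g
    have h := congrFun hy g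
    rw [Pi.single_apply] at h
    rw [← h]
    exact Finset.sum_congr rfl fun x _ => by rw [← hy1]; rfl
  have h2 : ∀ g h : H, ∑ x : H, (x * g) • θ * (x * h) • y 1 = if g = h then 1 else 0 := by
    intro g h
    rw [← Equiv.sum_comp (Equiv.mulRight h⁻¹)]
    simp only [Equiv.coe_mulRight, mul_assoc, inv_mul_cancel, mul_one]
    rw [h3 (h⁻¹ * g)]
    simp only [inv_mul_eq_one, eq_comm]
  refine ⟨θ, y 1, fun x => ?_, h2⟩
  let B : Matrix H H L := Matrix.of fun x h => (x * h) • y 1
  have hAB : A * B = 1 := by
    ext g h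
    rw [Matrix.mul_apply, Matrix.one_apply]
    exact h2 g h
  have hBA' : B * A = 1 := mul_eq_one_comm.mp hAB
  have hBA := congrFun (congrFun hBA' x) 1
  rw [Matrix.mul_apply, Matrix.one_apply] at hBA
  rw [← hBA]
  exact Finset.sum_congr rfl fun g _ => by
    simp only [A, B, Matrix.of_apply, one_mul]; rw [mul_comm]

/-- Galois descent with a normal element. -/
theorem semilinear_free {M : Type*} [AddCommGroup M] [Module L M] (σ : H →* AddMonoid.End M)
    (hσ : ∀ (h : H) (a : L) (m : M), σ h (a • m) = (h • a) • σ h m) :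
    ∃ θ : L,
      (∀ m : M, ∃ u : H → M, (∀ g x, σ x (u g) = u g) ∧ m = ∑ g, σ g (θ • u g)) ∧
      ∀ u : H → M, (∀ g x, σ x (u g) = u g) → ∑ g, σ g (θ • u g) = 0 → ∀ g, u g = 0 := by
  obtain ⟨θ, θ', h1, h2⟩ := exists_dual_pair (H := H) (L := L)
  have hT : ∀ (m : M) (z : H), σ z (∑ x, σ x m) = ∑ x, σ x m := by
    intro m z
    rw [map_sum, ← Equiv.sum_comp (Equiv.mulLeft z) (fun x => σ x m)]
    exact Finset.sum_congr rfl fun x _ => by rw [Equiv.coe_mulLeft, map_mul]; rfl
  refine ⟨θ, fun m => ⟨fun g => ∑ x, σ x ((g • θ') • m), fun g x => hT _ x, ?_⟩, fun u hu hsum k => ?_⟩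
  · calc m = ∑ x, (∑ g, g • θ * (x * g) • θ') • σ x m := by simp [h1, ite_smul]
      _ = ∑ g, ∑ x, (g • θ * (x * g) • θ') • σ x m := by
          simp only [Finset.sum_smul]; rw [Finset.sum_comm]
      _ = ∑ g, σ g (θ • ∑ x, σ x ((g • θ') • m)) := Finset.sum_congr rfl fun g _ => by
          rw [hσ g θ, hT, Finset.smul_sum]
          exact Finset.sum_congr rfl fun x _ => by rw [hσ, smul_smul, ← mul_smul x g θ']
  · have hsum' : ∑ g, (g • θ) • u g = 0 := by
      rw [← hsum]
      exact Finset.sum_congr rfl fun g _ => by rw [hσ, hu]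
    calc u k = ∑ g, (∑ x, (x * g) • θ * (x * k) • θ') • u g := by simp [h2, ite_smul]
      _ = ∑ x, ∑ g, ((x * g) • θ * (x * k) • θ') • u g := by
          simp only [Finset.sum_smul]; rw [Finset.sum_comm]
      _ = ∑ x, σ x ((k • θ') • ∑ g, (g • θ) • u g) := Finset.sum_congr rfl fun x _ => by
          rw [Finset.smul_sum, map_sum]
          exact Finset.sum_congr rfl fun g _ => by
            rw [smul_smul, hσ, hu, smul_mul', ← mul_smul, ← mul_smul, mul_comm]
      _ = 0 := by simp [hsum']

end Cfsg.Agent.Lib.FrobeniusFree
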