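import Cfsg.Agent.Lib.FrobeniusFree.Core
import Cfsg.Agent.Lib.Coprime.ThompsonFPF

/-!
Modules of Frobenius groups `FH` with nilpotent `F` and `C_V(F) = 0` are free over `H`.
-/

set_option autoImplicit false

namespace Cfsg.Agent.Lib.FrobeniusFree

universe u v w
variable {k : Type u} [Field k] {A : Type w} [Group A]

theorem center_ne_bot_of_nilpotent {H : Type*} [Group H] [Nontrivial H]
    (hnil : Group.IsNilpotent H) : Subgroup.center H ≠ ⊥ := by
  intro he
  obtain ⟨n, hn⟩ := hnil.nilpotent'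
  have hall : ∀ n, Subgroup.upperCentralSeries H n = ⊥ := by
    intro n
    induction n with
    | zero => simp
    | succ n ih =>
      rw [eq_bot_iff]
      intro x hx
      rw [Subgroup.mem_upperCentralSeries_succ_iff, ih] at hx
      rw [← he, Subgroup.mem_center_iff]
      intro y
      have hy := Subgroup.mem_bot.mp (hx y)
      rw [commutatorElement_def, mul_inv_eq_one, mul_inv_eq_iff_eq_mul] at hy
      exact hy.symm
  rw [hall] at hn
  exact bot_ne_top hn

/-- A `p`-group in characteristic `p` fixes a nonzero vector. -/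
theorem exists_fixed_of_isPGroup [Finite A] {V : Type v} [AddCommGroup V] [Module k V]
    (ρ : A →* Module.End k V) {p : ℕ} [hp : Fact p.Prime] (hpk : (p : k) = 0) {P : Subgroup A}
    (hP : IsPGroup p P) {U : Submodule k V} (hU : U ≠ ⊥)
    (hUP : ∀ a ∈ P, ∀ u ∈ U, ρ a u ∈ U) :
    ∃ v ∈ U, v ≠ 0 ∧ ∀ a ∈ P, ρ a v = v := by
  classical
  obtain ⟨v, hv, hv0⟩ := Submodule.exists_mem_ne_zero_of_ne_bot hU
  let S : AddSubgroup V := AddSubgroup.closure (Set.range fun a : P => ρ (a : A) v)
  have hSU : S ≤ U.toAddSubgroup := (AddSubgroup.closure_le _).mpr (by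
    rintro _ ⟨a, rfl⟩; exact hUP a a.2 v hv)
  have hinv : ∀ a : P, ∀ x ∈ S, ρ (a : A) x ∈ S := by
    intro a x hx
    suffices S ≤ S.comap (ρ (a : A)).toAddMonoidHom from this hx
    refine (AddSubgroup.closure_le _).mpr ?_
    rintro _ ⟨b, rfl⟩
    show ρ (a : A) (ρ (b : A) v) ∈ S
    rw [← Module.End.mul_apply, ← map_mul]
    exact AddSubgroup.subset_closure ⟨a * b, rfl⟩
  have hvS : v ∈ S := AddSubgroup.subset_closure ⟨1, by simp⟩
  have hfg : AddGroup.FG S := by
    rw [AddGroup.fg_iff_addSubgroup_fg]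
    exact (AddSubgroup.fg_iff _).mpr ⟨_, rfl, Set.finite_range _⟩
  have hpS : ∀ x : S, p • x = 0 := fun x => Subtype.ext (by
    show p • (x : V) = 0
    rw [← Nat.cast_smul_eq_nsmul k, hpk, zero_smul])
  have : Finite S := AddCommGroup.finite_of_fg_torsion S fun x =>
    isOfFinAddOrder_iff_nsmul_eq_zero.mpr ⟨p, hp.out.pos, hpS x⟩
  have hdvd : p ∣ Nat.card S := by
    rw [← addOrderOf_eq_prime (hpS ⟨v, hvS⟩) fun e => hv0 (congrArg Subtype.val e)]
    exact addOrderOf_dvd_natCard _
  letI : MulAction P S :=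
    { smul := fun a x => ⟨ρ (a : A) x, hinv a x x.2⟩
      one_smul := fun x => Subtype.ext (by show ρ ((1 : P) : A) (x : V) = x; simp)
      mul_smul := fun a b x => Subtype.ext (by
        show ρ ((a * b : P) : A) (x : V) = ρ (a : A) (ρ (b : A) x)
        simp) }
  obtain ⟨b, hb, hb0⟩ := hP.exists_fixed_point_of_prime_dvd_card_of_fixed_point (α := S) hdvd
    (a := (0 : S)) (fun a => Subtype.ext (map_zero _))
  exact ⟨b, hSU b.2, fun e => hb0 (Subtype.ext e).symm,
    fun a ha => congrArg Subtype.val (hb ⟨a, ha⟩)⟩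

/-- The induction: `E` nilpotent of order invertible in `k`. -/
theorem isFree_of_coprime [Finite A] (Hc E : Subgroup A) [Fintype Hc] [E.Normal]
    (hgen : E ⊔ Hc = ⊤) (hnil : Group.IsNilpotent E) (hE : (Nat.card E : k) ≠ 0)
    (hfpf : ∀ h ∈ Hc, h ≠ 1 → ∀ n ∈ E, Commute h n → n = 1) :
    ∀ (d : ℕ) (V : Type v) [AddCommGroup V] [Module k V] [FiniteDimensional k V]
      (ρ : A →* Module.End k V), Module.finrank k V = d →
      (∀ v : V, (∀ n ∈ E, ρ n v = v) → v = 0) → IsFree Hc ρ := by
  classical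
  intro d
  induction d using Nat.strong_induction_on with
  | _ d ih =>
  intro V _ _ _ ρ hd hfix
  rcases subsingleton_or_nontrivial V with hV | hV
  · exact ⟨⊥, fun w w' _ => funext fun h => Subsingleton.elim _ _,
      fun v => ⟨0, Subsingleton.elim _ _⟩⟩
  by_cases hirr : ∀ U : Submodule k V, (∀ a : A, ∀ u ∈ U, ρ a u ∈ U) → U = ⊥ ∨ U = ⊤
  · -- the irreducible case
    let f : A →* (Module.End k V)ˣ := ρ.toHomUnits
    have hf : ∀ a, (f a : Module.End k V) = ρ a := fun a => rfl
    let N : Subgroup A := E ⊓ (Subgroup.centralizer (E.map f : Set (Module.End k V)ˣ)).comap f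
    have hNn : N.Normal := by
      constructor
      intro n hn g
      obtain ⟨hnE, hnc⟩ := Subgroup.mem_inf.mp hn
      refine Subgroup.mem_inf.mpr ⟨Subgroup.Normal.conj_mem ‹_› n hnE g, ?_⟩
      rw [Subgroup.mem_comap, Subgroup.mem_centralizer_iff] at hnc ⊢
      rintro _ ⟨e, he, rfl⟩
      have h1 := hnc _ ⟨g⁻¹ * e * g, by simpa using Subgroup.Normal.conj_mem ‹_› e he g⁻¹, rfl⟩
      rw [← map_mul, ← map_mul] at h1 ⊢
      calc f (e * (g * n * g⁻¹)) = f g * f (g⁻¹ * e * g * n) * f g⁻¹ := by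
            rw [← map_mul, ← map_mul]; congr 1; group
        _ = f g * f (n * (g⁻¹ * e * g)) * f g⁻¹ := by rw [h1]
        _ = _ := by rw [← map_mul, ← map_mul]; congr 1; group
    have hne : ∃ n ∈ N, ρ n ≠ 1 := by
      by_contra! hno
      obtain ⟨v, hv⟩ := exists_ne (0 : V)
      let g : E →* (Module.End k V)ˣ := f.comp E.subtype
      have hr : Nontrivial g.range := by
        rw [Subgroup.nontrivial_iff_ne_bot]
        intro e
        refine hv (hfix v fun n hn => ?_)
        have h1 : f n ∈ g.range := ⟨⟨n, hn⟩, rfl⟩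
        rw [e, Subgroup.mem_bot] at h1
        rw [← hf, h1]
        rfl
      have : Group.IsNilpotent E := hnil
      have hrn : Group.IsNilpotent g.range :=
        Group.nilpotent_of_surjective g.rangeRestrict g.rangeRestrict_surjective
      obtain ⟨⟨⟨_, ⟨n, hn⟩, rfl⟩, hc⟩, hne1⟩ :=
        (Subgroup.ne_bot_iff_exists_ne_one).mp (center_ne_bot_of_nilpotent hrn)
      have hnN : n ∈ N := Subgroup.mem_inf.mpr ⟨hn, by
        rw [Subgroup.mem_comap, Subgroup.mem_centralizer_iff]
        rintro _ ⟨e, he, rfl⟩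
        exact congrArg Subtype.val (Subgroup.mem_center_iff.mp hc ⟨f e, ⟨e, he⟩, rfl⟩)⟩
      exact hne1 (Subtype.ext (Subtype.ext (Units.ext (hno n hnN))))
    refine isFree_irreducible Hc ρ hirr E N hgen ?_ inf_le_left hne
      (fun h hh hh1 n hn => hfpf h hh hh1 n (inf_le_left (α := Subgroup A) hn))
    intro n hn e he
    exact (congrArg Units.val
      (Subgroup.mem_centralizer_iff.mp (Subgroup.mem_inf.mp hn).2 (f e) ⟨e, he, rfl⟩)).symm
  · -- an invariant subspace
    push Not at hirr
    obtain ⟨U, hU, hU0, hU1⟩ := hirr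
    let ρU : A →* Module.End k U :=
      { toFun := fun a => (ρ a).restrict fun u hu => hU a u hu
        map_one' := LinearMap.ext fun u => Subtype.ext (by
          show ρ 1 (u : V) = u
          simp)
        map_mul' := fun a b => LinearMap.ext fun u => Subtype.ext (by
          show ρ (a * b) (u : V) = ρ a (ρ b (u : V))
          simp) }
    let ρQ : A →* Module.End k (V ⧸ U) :=
      { toFun := fun a => U.mapQ U (ρ a) fun u hu => hU a u hu
        map_one' := Submodule.linearMap_qext _ (LinearMap.ext fun u => by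
          show Submodule.Quotient.mk (ρ 1 u) = Submodule.Quotient.mk u
          simp)
        map_mul' := fun a b => Submodule.linearMap_qext _ (LinearMap.ext fun u => by
          show Submodule.Quotient.mk (ρ (a * b) u) = Submodule.Quotient.mk (ρ a (ρ b u))
          simp) }
    have hρQ : ∀ a v, ρQ a (Submodule.Quotient.mk v) = Submodule.Quotient.mk (ρ a v) :=
      fun a v => rfl
    have hdim := U.finrank_quotient_add_finrank
    have hUpos : 0 < Module.finrank k U := by
      rw [Nat.pos_iff_ne_zero, Ne, Submodule.finrank_eq_zero]; exact hU0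
    have hQpos : Module.finrank k U < Module.finrank k V := Submodule.finrank_lt hU1
    obtain ⟨W₁, hW₁⟩ := ih _ (by omega) U ρU rfl fun u hu =>
      Subtype.ext (hfix u fun n hn => congrArg Subtype.val (hu n hn))
    obtain ⟨W₂, hW₂⟩ := ih _ (by omega) (V ⧸ U) ρQ rfl (by
      intro q hq
      obtain ⟨v, rfl⟩ := Submodule.Quotient.mk_surjective U q
      have : Fintype E := Fintype.ofFinite E
      set s := ∑ e : E, ρ (e : A) v with hs
      have hs0 : s = 0 := hfix s fun n hn => by
        rw [hs, map_sum, ← Equiv.sum_comp (Equiv.mulLeft (⟨n, hn⟩ : E)) (fun e : E => ρ (e : A) v)]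
        simp [map_mul]
      have h1 : (U.mkQ) s = (Nat.card E : k) • Submodule.Quotient.mk v := by
        rw [hs, map_sum, Nat.card_eq_fintype_card, Nat.cast_smul_eq_nsmul,
          ← Finset.card_univ, ← Finset.sum_const]
        exact Finset.sum_congr rfl fun e _ => (hρQ e v).symm.trans (hq e e.2)
      rw [hs0, map_zero, eq_comm, smul_eq_zero] at h1
      exact h1.resolve_left hE)
    obtain ⟨C, hC⟩ := U.exists_isCompl
    let e : (V ⧸ U) ≃ₗ[k] C := Submodule.quotientEquivOfIsCompl U C hC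
    let lift : (V ⧸ U) →ₗ[k] V := C.subtype.comp e.toLinearMap
    have hlift : ∀ q, Submodule.Quotient.mk (lift q) = q := fun q =>
      (e.symm_apply_apply q : _)
    let W₁' : Submodule k V := W₁.map U.subtype
    let W₂' : Submodule k V := W₂.map lift
    refine ⟨W₁' ⊔ W₂', ?_, ?_⟩
    · intro w w' hww
      simp only at hww
      choose a ha b hb hab using fun h : Hc => Submodule.mem_sup.mp (w h - w' h).2
      choose a' ha' haa using fun h => Submodule.mem_map.mp (ha h)
      choose b' hb' hbb using fun h => Submodule.mem_map.mp (hb h)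
      have hsum : ∑ h : Hc, ρ (h : A) (U.subtype (a' h) + lift (b' h)) = 0 := by
        simp only [haa, hbb, hab, Submodule.coe_sub, map_sub, Finset.sum_sub_distrib, hww,
          sub_self]
      have hb0 : ∀ h, b' h = 0 := by
        have h1 := congrArg U.mkQ hsum
        rw [map_sum, map_zero] at h1
        have h2 : ∑ h : Hc, ρQ (h : A) (b' h) = 0 := by
          rw [← h1]
          refine Finset.sum_congr rfl fun h _ => ?_
          rw [map_add, map_add]
          conv_lhs => rw [← hlift (b' h)]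
          rw [hρQ]
          have hz : U.mkQ (ρ (h : A) (U.subtype (a' h))) = 0 :=
            (Submodule.Quotient.mk_eq_zero U).mpr (hU _ _ (a' h).2)
          rw [hz, zero_add]
          rfl
        intro h
        have h3 := hW₂.1 (a₁ := fun h => ⟨b' h, hb' h⟩) (a₂ := 0) (by simpa using h2)
        exact congrArg Subtype.val (congrFun h3 h)
      have ha0 : ∀ h, a' h = 0 := by
        have h2 : ∑ h : Hc, ρU (h : A) (a' h) = 0 := by
          apply Subtype.ext
          rw [ZeroMemClass.coe_zero, ← hsum, AddSubmonoidClass.coe_finsetSum]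
          exact Finset.sum_congr rfl fun h _ => by rw [hb0, map_zero, add_zero]; rfl
        intro h
        have h3 := hW₁.1 (a₁ := fun h => ⟨a' h, ha' h⟩) (a₂ := 0) (by simpa using h2)
        exact congrArg Subtype.val (congrFun h3 h)
      funext h
      have := hab h
      rw [← haa h, ← hbb h, ha0, hb0, map_zero, map_zero, add_zero] at this
      exact sub_eq_zero.mp (Subtype.ext this.symm)
    · intro v
      obtain ⟨w₂, hw₂⟩ := hW₂.2 (Submodule.Quotient.mk v)
      simp only at hw₂
      let v₂ : V := ∑ h : Hc, ρ (h : A) (lift (w₂ h : V ⧸ U))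
      have hmem : v - v₂ ∈ U := by
        rw [← Submodule.Quotient.eq, ← hw₂]
        show _ = U.mkQ v₂
        rw [map_sum]
        refine Finset.sum_congr rfl fun h _ => ?_
        conv_lhs => rw [← hlift (w₂ h : V ⧸ U)]
        rw [hρQ]
        rfl
      obtain ⟨w₁, hw₁⟩ := hW₁.2 ⟨v - v₂, hmem⟩
      have hw₁' := congrArg Subtype.val hw₁
      simp only [AddSubmonoidClass.coe_finsetSum] at hw₁'
      refine ⟨fun h => ⟨U.subtype (w₁ h : U) + lift (w₂ h : V ⧸ U), Submodule.add_mem_sup
        (Submodule.mem_map_of_mem (w₁ h).2) (Submodule.mem_map_of_mem (w₂ h).2)⟩, ?_⟩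
      simp only [map_add, Finset.sum_add_distrib]
      show _ + v₂ = v
      rw [← eq_sub_iff_add_eq, ← hw₁']
      rfl

/-- `C_V(F) = 0` gives freeness over the complement. -/
theorem isFree_of_frobenius [Finite A] {V : Type v} [AddCommGroup V] [Module k V]
    [FiniteDimensional k V] (ρ : A →* Module.End k V) (Hc Fk : Subgroup A) [Fintype Hc] [Fk.Normal]
    (hnil : Group.IsNilpotent Fk)
    (hfpf : ∀ h ∈ Hc, h ≠ 1 → ∀ n ∈ Fk, Commute h n → n = 1)
    (hCF : ∀ v : V, (∀ f ∈ Fk, ρ f v = v) → v = 0) : IsFree Hc ρ := by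
  classical
  obtain ⟨E, hEn, hEF, hE, hfix⟩ : ∃ E : Subgroup A, E.Normal ∧ E ≤ Fk ∧
      (Nat.card E : k) ≠ 0 ∧ ∀ v : V, (∀ n ∈ E, ρ n v = v) → v = 0 := by
    by_cases hz : (Nat.card Fk : k) ≠ 0
    · exact ⟨Fk, ‹_›, le_rfl, hz, hCF⟩
    rw [not_not] at hz
    obtain ⟨p, hp⟩ := CharP.exists k
    rcases CharP.char_is_prime_or_zero k p with hpp | rfl
    swap
    · have : CharZero k := CharP.charP_to_charZero k
      exact absurd hz (Nat.cast_ne_zero.mpr Nat.card_pos.ne')
    have := Fact.mk hpp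
    obtain ⟨P₀, E₀, hE₀, hc⟩ := Coprime.hasNormalPComplement_of_isNilpotent hnil (p := p)
    have hE₀p : ¬ p ∣ Nat.card E₀ := by
      rw [← hc.index_eq_card]; exact P₀.not_dvd_index
    have hmem : ∀ x : Fk, x ∈ E₀ ↔ (orderOf x : k) ≠ 0 := by
      intro x
      rw [Ne, CharP.cast_eq_zero_iff k p]
      refine ⟨fun hx h => hE₀p (h.trans (Subgroup.orderOf_dvd_natCard _ hx)), fun hx => ?_⟩
      rw [← QuotientGroup.eq_one_iff, ← orderOf_eq_one_iff]
      refine Nat.eq_one_of_dvd_coprimes ?_ (orderOf_map_dvd (QuotientGroup.mk' E₀) x)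
        (orderOf_dvd_natCard _)
      rw [show Nat.card (Fk ⧸ E₀) = E₀.index from rfl, hc.symm.index_eq_card,
        P₀.card_eq_multiplicity]
      exact Nat.Coprime.pow_right _ ((hpp.coprime_iff_not_dvd.mpr hx).symm)
    refine ⟨E₀.map Fk.subtype, ⟨?_⟩, Subgroup.map_subtype_le _, ?_, ?_⟩
    · rintro _ ⟨x, hx, rfl⟩ g
      refine ⟨⟨g * x * g⁻¹, Subgroup.Normal.conj_mem ‹_› _ x.2 g⟩, (hmem _).mpr ?_, rfl⟩
      have : orderOf (⟨g * x * g⁻¹, Subgroup.Normal.conj_mem ‹_› _ x.2 g⟩ : Fk) = orderOf x := by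
        rw [Subgroup.orderOf_mk, ← Subgroup.orderOf_coe x]
        simpa using (MulAut.conj g).orderOf_eq (x : A)
      rw [this]
      exact (hmem x).mp hx
    · rw [Subgroup.card_map_of_injective Fk.subtype_injective, Ne, CharP.cast_eq_zero_iff k p]
      exact hE₀p
    · intro v hv
      by_contra hv0
      let U : Submodule k V :=
        { carrier := {v | ∀ n ∈ E₀.map Fk.subtype, ρ n v = v}
          zero_mem' := fun n _ => map_zero _
          add_mem' := fun {a b} ha hb n hn => by rw [map_add, ha n hn, hb n hn]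
          smul_mem' := fun c a ha n hn => by rw [map_smul, ha n hn] }
      have hU : U ≠ ⊥ := fun e => hv0 ((Submodule.mem_bot k).mp (e ▸ (hv : v ∈ U)))
      have hP₀n := Coprime.normal_of_isNilpotent hnil P₀
      have hcomm : ∀ a ∈ (P₀ : Subgroup Fk), ∀ x ∈ E₀, Commute a x := fun a ha x hx =>
        Subgroup.commute_of_normal_of_disjoint _ _ hP₀n hE₀ hc.disjoint.symm a x ha hx
      obtain ⟨u, hu, hu0, huP⟩ := exists_fixed_of_isPGroup ρ
        (P := (P₀ : Subgroup Fk).map Fk.subtype) (CharP.cast_eq_zero k p)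
        (P₀.isPGroup'.map _) hU (by
          rintro _ ⟨a, ha, rfl⟩ u hu _ ⟨x, hx, rfl⟩
          rw [← Module.End.mul_apply, ← map_mul, ← map_mul, ← (hcomm a ha x hx).eq, map_mul,
            map_mul, Module.End.mul_apply, hu _ ⟨x, hx, rfl⟩])
      refine hu0 (hCF u fun f hf => ?_)
      obtain ⟨⟨a, b⟩, hab⟩ := hc.2 ⟨f, hf⟩
      have hf' : f = ((a : Fk) : A) * ((b : Fk) : A) := (congrArg Subtype.val hab).symm
      have e1 : ρ ((b : Fk) : A) u = u := huP _ ⟨b, b.2, rfl⟩
      have e2 : ρ ((a : Fk) : A) u = u := hu _ ⟨a, a.2, rfl⟩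
      rw [hf', map_mul, Module.End.mul_apply, e1, e2]
  -- restrict to the subgroup generated by `E` and `Hc`
  have := hEn
  let A' : Subgroup A := E ⊔ Hc
  let E' : Subgroup A' := E.subgroupOf A'
  let Hc' : Subgroup A' := Hc.subgroupOf A'
  have : Fintype Hc' := Fintype.ofFinite _
  have hE'n : E'.Normal := hEn.subgroupOf A'
  have : Group.IsNilpotent Fk := hnil
  have hEnil : Group.IsNilpotent (E.subgroupOf Fk) := inferInstance
  have hE'nil : Group.IsNilpotent E' :=
    Group.isNilpotent_congr ((Subgroup.subgroupOfEquivOfLe hEF).trans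
      (Subgroup.subgroupOfEquivOfLe (le_sup_left : E ≤ A')).symm) |>.mp hEnil
  have hgen : E' ⊔ Hc' = ⊤ := by
    rw [← Subgroup.subgroupOf_sup le_sup_left le_sup_right, Subgroup.subgroupOf_self]
  obtain ⟨W, hW⟩ := isFree_of_coprime Hc' E' hgen hE'nil
    (by rwa [Nat.card_congr (Subgroup.subgroupOfEquivOfLe (le_sup_left : E ≤ A')).toEquiv])
    (fun h hh hh1 n hn hc => Subtype.ext
      (hfpf h hh (fun e => hh1 (Subtype.ext e)) n (hEF hn) (congrArg Subtype.val hc)))
    _ V (ρ.comp A'.subtype) rfl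
    (fun v hv => hfix v fun n hn => hv ⟨n, le_sup_left (b := Hc) hn⟩ hn)
  refine ⟨W, ?_⟩
  let eH : Hc' ≃ Hc := (Subgroup.subgroupOfEquivOfLe (le_sup_right : Hc ≤ A')).toEquiv
  have hrw : (fun w : Hc → W => ∑ h : Hc, ρ (h : A) (w h : V)) =
      (fun w : Hc' → W => ∑ h : Hc', ρ ((h : A') : A) (w h : V)) ∘ (fun w => w ∘ eH) := by
    funext w
    exact (Equiv.sum_comp eH (fun h : Hc => ρ (h : A) (w h : V))).symm
  rw [hrw]
  exact hW.comp (eH.symm.arrowCongr (Equiv.refl W)).bijective

/-- Freeness as an internal direct sum. -/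
theorem IsFree.isInternal {V : Type v} [AddCommGroup V] [Module k V] {ρ : A →* Module.End k V}
    {Hc : Subgroup A} [Fintype Hc] [DecidableEq Hc] (hρ : IsFree Hc ρ) :
    ∃ W : Submodule k V, DirectSum.IsInternal fun h : Hc => W.map (ρ (h : A)) := by
  classical
  obtain ⟨W, hinj, hsurj⟩ := hρ
  refine ⟨W, (DirectSum.isInternal_submodule_iff_iSupIndep_and_iSup_eq_top _).mpr ⟨?_, ?_⟩⟩
  · rw [iSupIndep_iff_finsetSum_eq_zero_imp_eq_zero]
    intro s v hv hsum i hi
    choose! w hw hwv using fun j (hj : j ∈ s) => Submodule.mem_map.mp (hv j hj)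
    let w' : Hc → W := fun j => if hj : j ∈ s then ⟨w j, hw j hj⟩ else 0
    have h0 : w' = 0 := hinj (by
      show ∑ h : Hc, ρ (h : A) (w' h : V) = ∑ h : Hc, ρ (h : A) ((0 : Hc → W) h : V)
      simp only [Pi.zero_apply, ZeroMemClass.coe_zero, map_zero, Finset.sum_const_zero]
      rw [← hsum, ← Finset.sum_subset (Finset.subset_univ s)]
      · exact Finset.sum_congr rfl fun j hj => by simp [w', hj, hwv j hj]
      · intro j _ hj; simp [w', hj])
    have h1 := congrArg Subtype.val (congrFun h0 i)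
    simp [w', hi] at h1
    rw [← hwv i hi, h1, map_zero]
  · rw [eq_top_iff]
    intro v _
    obtain ⟨w, rfl⟩ := hsurj v
    exact Submodule.sum_mem _ fun h _ =>
      Submodule.mem_iSup_of_mem h (Submodule.mem_map_of_mem (w h).2)

end Cfsg.Agent.Lib.FrobeniusFree
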